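import Groth.Agent.Quiet5.BC
import Groth.Agent.EGA41Lib.RegSeqPow
import Mathlib.RingTheory.Regular.Flat
import Mathlib.RingTheory.RingHom.FaithfullyFlat
import Mathlib.AlgebraicGeometry.Morphisms.Flat

/-!
# Quotients of faithfully flat root towers
-/

set_option backward.isDefEq.respectTransparency false

universe u

open CategoryTheory Limits AlgebraicGeometry

namespace Groth.Agent.H84RootTower

/-- The pushout of a quotient map. -/
theorem isPushout_quotient {O T : Type u} [CommRing O] [CommRing T] (ρ : O →+* T) (J : Ideal O) :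
    IsPushout (CommRingCat.ofHom (Ideal.Quotient.mk J)) (CommRingCat.ofHom ρ)
      (CommRingCat.ofHom (Ideal.quotientMap (J.map ρ) ρ Ideal.le_comap_map))
      (CommRingCat.ofHom (Ideal.Quotient.mk (J.map ρ))) := by
  refine IsPushout.of_isColimit' ⟨by ext x; rfl⟩ (PushoutCocone.isColimitAux' _ fun s => ?_)
  have hker : ∀ x ∈ J.map ρ, s.inr.hom x = 0 := by
    refine fun x hx => (Ideal.map_le_iff_le_comap (K := RingHom.ker s.inr.hom)).2 (fun j hj => ?_) hx
    show s.inr.hom (ρ j) = 0
    have h := congrArg (fun f => f.hom j) s.condition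
    simp only [CommRingCat.hom_comp, CommRingCat.hom_ofHom, RingHom.comp_apply,
      Ideal.Quotient.eq_zero_iff_mem.2 hj, map_zero] at h
    exact h.symm
  refine ⟨CommRingCat.ofHom (Ideal.Quotient.lift _ s.inr.hom hker), ?_, ?_, fun {m} _ h2 => ?_⟩
  · ext x
    exact (congrArg (fun f => f.hom x) s.condition).symm
  · ext x; rfl
  · refine CommRingCat.hom_ext (RingHom.ext fun x => ?_)
    obtain ⟨x, rfl⟩ := Ideal.Quotient.mk_surjective (x : T ⧸ J.map ρ)
    exact congrArg (fun f => f.hom x) h2

theorem isPullback_quotient {O T : Type u} [CommRing O] [CommRing T] (ρ : O →+* T) (J : Ideal O) :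
    IsPullback (Spec.map (CommRingCat.ofHom (Ideal.Quotient.mk (J.map ρ))))
      (Spec.map (CommRingCat.ofHom (Ideal.quotientMap (J.map ρ) ρ Ideal.le_comap_map)))
      (Spec.map (CommRingCat.ofHom ρ)) (Spec.map (CommRingCat.ofHom (Ideal.Quotient.mk J))) :=
  (isPullback_SpecMap_of_isPushout _ _ _ _ (isPushout_quotient ρ J)).flip

/-- Reduction of a faithfully flat map modulo an ideal. -/
theorem faithfullyFlat_quotientMap {O T : Type u} [CommRing O] [CommRing T] {ρ : O →+* T}
    (h : ρ.FaithfullyFlat) (J : Ideal O) :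
    (Ideal.quotientMap (J.map ρ) ρ Ideal.le_comap_map).FaithfullyFlat := by
  obtain ⟨h1, h2⟩ := RingHom.FaithfullyFlat.iff_flat_and_comap_surjective.1 h
  have hf : Flat (Spec.map (CommRingCat.ofHom ρ)) := (HasRingHomProperty.Spec_iff (P := @Flat)).2 h1
  have hs : Surjective (Spec.map (CommRingCat.ofHom ρ)) := ⟨h2⟩
  have hf' := MorphismProperty.of_isPullback (P := @Flat) (isPullback_quotient ρ J) hf
  have hs' := MorphismProperty.of_isPullback (P := @Surjective) (isPullback_quotient ρ J) hs
  exact RingHom.FaithfullyFlat.iff_flat_and_comap_surjective.2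
    ⟨(HasRingHomProperty.Spec_iff (P := @Flat)).1 hf', hs'.1⟩

/-- Reduction of a root extraction modulo an ideal. -/
theorem isPthRoot_quotientMap {p : ℕ} {O T : Type u} [CommRing O] [CommRing T] {ρ : O →+* T}
    (h : Quiet.IsPthRoot p (Spec.map (CommRingCat.ofHom ρ))) (J : Ideal O) :
    Quiet.IsPthRoot p (Spec.map (CommRingCat.ofHom (Ideal.quotientMap (J.map ρ) ρ Ideal.le_comap_map))) :=
  Quiet5.isPthRoot_of_isPullback (isPullback_quotient ρ J) h

open RingTheory.Sequence in
/-- Regular sequences along faithfully flat maps. -/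
theorem isRegular_map {O T : Type u} [CommRing O] [CommRing T] {ρ : O →+* T} (h : ρ.FaithfullyFlat) {rs : List O}
    (hr : IsRegular O rs) : IsRegular T (rs.map ρ) := by
  algebraize [ρ]
  have : Module.FaithfullyFlat O T := RingHom.faithfullyFlat_algebraMap_iff.1 h
  exact hr.of_faithfullyFlat

open RingTheory.Sequence in
/-- Powers of a flat extension followed by a sequence regular modulo them. -/
theorem isRegular_append {A P : Type u} [CommRing A] [CommRing P] [Algebra A P] [Module.Flat A P] {n m e : ℕ}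
    (he : 1 ≤ e) {t : Fin n → A} (ht : IsWeaklyRegular A (List.ofFn t)) (v : Fin m → P)
    (hv : IsRegular (P ⧸ Ideal.span (Set.range fun i => algebraMap A P (t i) ^ e))
      (List.ofFn fun j => Ideal.Quotient.mk (Ideal.span (Set.range fun i => algebraMap A P (t i) ^ e)) (v j))) :
    IsRegular P (List.ofFn (fun i => algebraMap A P (t i) ^ e) ++ List.ofFn v) := by
  set I := Ideal.span (Set.range fun i => algebraMap A P (t i) ^ e)
  have hI : Ideal.ofList (List.ofFn fun i => algebraMap A P (t i) ^ e) = I :=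
    congrArg Ideal.span (Set.ext fun x => List.mem_ofFn)
  have hw1 : IsWeaklyRegular P (List.ofFn fun i => algebraMap A P (t i) ^ e) := by
    refine EGA41Lib.isWeaklyRegular_pow n _ (fun _ => e) (fun _ => he) ?_
    have := IsWeaklyRegular.of_flat (S := P) ht
    rwa [List.map_ofFn] at this
  have hmap : (List.ofFn fun j => Ideal.Quotient.mk I (v j)) = (List.ofFn v).map (algebraMap P (P ⧸ I)) := by
    rw [List.map_ofFn]; rfl
  refine ⟨(isWeaklyRegular_append_iff P _ _).2 ⟨hw1, ?_⟩, ?_⟩
  · have hv1 := hv.toIsWeaklyRegular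
    rw [hmap, isWeaklyRegular_map_algebraMap_iff] at hv1
    refine (LinearEquiv.isWeaklyRegular_congr (Submodule.quotEquivOfEq _ _ ?_) _).2 hv1
    rw [hI, smul_eq_mul, Ideal.mul_top]
  · rw [smul_eq_mul, Ideal.mul_top]
    intro htop
    refine hv.top_ne_smul ?_
    rw [smul_eq_mul, Ideal.mul_top, hmap, ← Ideal.map_ofList]
    have h1 := congrArg (Ideal.map (Ideal.Quotient.mk I)) htop
    rw [Ideal.map_top, Ideal.ofList_append, Ideal.map_sup, hI, Ideal.map_quotient_self, bot_sup_eq] at h1
    exact h1

end Groth.Agent.H84RootTower
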