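import Groth.Prelude.Def_Frob
import Groth.Agent.PerfLib.RelFrob
import Mathlib.AlgebraicGeometry.Pullbacks

/-!
# The relative Frobenius of affine schemes
-/

universe u

open CategoryTheory Limits AlgebraicGeometry TensorProduct

namespace Groth.Agent.H84RootTower

variable {p : ℕ} [hp : Fact p.Prime]

/-- The absolute Frobenius of an affine scheme. -/
theorem frob_Spec (R : Type u) [CommRing R] [CharP R p] :
    FrobSch.frob (Spec (CommRingCat.of R)) p = Spec.map (CommRingCat.ofHom (frobenius R p)) := by
  refine ext_of_isAffine ?_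
  ext x
  rw [FrobSch.frob_appTop]
  apply (Scheme.ΓSpecIso (CommRingCat.of R)).commRingCatIsoToRingEquiv.injective
  rw [map_pow]
  exact (ConcreteCategory.congr_hom (Scheme.ΓSpecIso_naturality (CommRingCat.ofHom (frobenius R p))) x).symm

variable (A B : Type u) [CommRing A] [CharP A p] [CommRing B] [Algebra A B] [CharP B p]

/-- The structure morphism of an affine scheme. -/
noncomputable abbrev str : Spec (CommRingCat.of B) ⟶ Spec (CommRingCat.of A) :=
  Spec.map (CommRingCat.ofHom (algebraMap A B))

/-- The projection of the twist to the base. -/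
noncomputable def twistSnd : Spec (CommRingCat.of (FrobAlg.BaseChange p A B)) ⟶ Spec (CommRingCat.of A) :=
  Spec.map (CommRingCat.ofHom ((Algebra.TensorProduct.includeRight : FrobAlg.Twist p A →ₐ[A] _).toRingHom.comp
    (FrobAlg.toTwist p A).toRingHom))

theorem isPullback_twist :
    IsPullback (Spec.map (CommRingCat.ofHom (Algebra.TensorProduct.includeLeftRingHom : B →+* FrobAlg.BaseChange p A B)))
      (twistSnd A B) (str A B) (FrobSch.frob (Spec (CommRingCat.of A)) p) := by
  let eR : Spec (CommRingCat.of (FrobAlg.Twist p A)) ≅ Spec (CommRingCat.of A) :=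
    Scheme.Spec.mapIso (FrobAlg.toTwist p A).toCommRingCatIso.op
  refine (isPullback_SpecMap_of_isPushout _ _ _ _ (CommRingCat.isPushout_tensorProduct A B (FrobAlg.Twist p A))).of_iso
    (Iso.refl _) (Iso.refl _) eR (Iso.refl _) (by simp) ?_ (by simp) ?_
  · rw [Iso.refl_hom, Category.id_comp, twistSnd]
    exact (Spec.map_comp _ _).symm
  · rw [Iso.refl_hom, Category.comp_id, frob_Spec]
    exact Spec.map_comp (CommRingCat.ofHom (frobenius A p)) (FrobAlg.toTwist p A).toCommRingCatIso.hom

/-- The twist of an affine scheme. -/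
noncomputable def twistIso : FrobSch.frobTwist (str A B) p ≅ Spec (CommRingCat.of (FrobAlg.BaseChange p A B)) :=
  (isPullback_twist A B).isoPullback.symm

theorem relFrob_Spec :
    FrobSch.relFrob (str A B) p ≫ (twistIso A B).hom =
      Spec.map (CommRingCat.ofHom (FrobAlg.relFrob p A B)) := by
  rw [← Iso.eq_comp_inv, twistIso, Iso.symm_inv]
  apply pullback.hom_ext
  · rw [FrobSch.relFrob_fst, frob_Spec, Category.assoc, IsPullback.isoPullback_hom_fst, ← Spec.map_comp]
    refine congrArg Spec.map (CommRingCat.hom_ext (RingHom.ext fun b => ?_))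
    change b ^ p = FrobAlg.relFrob p A B (b ⊗ₜ[A] 1)
    rw [PerfLib.relFrob_tmul, map_one, map_one, mul_one]
  · rw [FrobSch.relFrob_snd, Category.assoc, IsPullback.isoPullback_hom_snd, twistSnd, ← Spec.map_comp]
    refine congrArg Spec.map (CommRingCat.hom_ext (RingHom.ext fun a => ?_))
    change algebraMap A B a = FrobAlg.relFrob p A B (1 ⊗ₜ[A] FrobAlg.toTwist p A a)
    rw [PerfLib.relFrob_tmul, one_pow, one_mul, RingEquiv.symm_apply_apply]

end Groth.Agent.H84RootTower
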