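import Groth.Agent.Quiet5.BC
import Groth.Agent.FrobIter.Basic
import Groth.Agent.FrobSchLib.Basic
import Groth.Agent.EtFound.TopInv
import Mathlib.AlgebraicGeometry.Morphisms.Etale

/-!
# Composition of root extractions and descent of étale morphisms along them
-/

set_option backward.isDefEq.respectTransparency false

universe u

open CategoryTheory Limits AlgebraicGeometry Polynomial

namespace Groth.Agent.H84RootTower

variable {p : ℕ} [hp : Fact p.Prime]

theorem isRootTower_of_algEquiv : ∀ (n : ℕ) {A B B' : Type u} [CommRing A] [CommRing B] [CommRing B'] [Algebra A B]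
    [Algebra A B'] (_ : B ≃ₐ[A] B'), Quiet.IsRootTower p n A B → Quiet.IsRootTower p n A B'
  | 0, A, B, B', _, _, _, _, _, e, ⟨f⟩ => ⟨e.symm.trans f⟩
  | n + 1, A, B, B', _, _, _, _, _, e, ⟨a, alg, htow, h⟩ => by
    letI : Algebra (Quiet.RootRing p A a) B' := (e.toRingHom.comp (algebraMap (Quiet.RootRing p A a) B)).toAlgebra
    haveI : IsScalarTower A (Quiet.RootRing p A a) B' := IsScalarTower.of_algebraMap_eq fun x => by
      change _ = e (algebraMap (Quiet.RootRing p A a) B (algebraMap A _ x))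
      rw [← IsScalarTower.algebraMap_apply, e.commutes]
    let e' : B ≃ₐ[Quiet.RootRing p A a] B' := AlgEquiv.ofRingEquiv (f := e.toRingEquiv) fun x => rfl
    exact ⟨a, inferInstance, inferInstance, isRootTower_of_algEquiv n e' h⟩

theorem isRootTower_trans (m : ℕ) : ∀ (n : ℕ) {A B C : Type u} [CommRing A] [CommRing B] [CommRing C] [Algebra A B]
    [Algebra B C] [Algebra A C] [IsScalarTower A B C],
    Quiet.IsRootTower p n A B → Quiet.IsRootTower p m B C → ∃ N, Quiet.IsRootTower p N A C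
  | 0, A, B, C, _, _, _, _, _, _, _, ⟨f⟩, h => by
    have sq : IsPushout (CommRingCat.ofHom (algebraMap B C)) (CommRingCat.ofHom f.toRingHom)
        (𝟙 (CommRingCat.of C)) (CommRingCat.ofHom (algebraMap A C)) := by
      haveI : IsIso (CommRingCat.ofHom f.toRingHom) := (ConcreteCategory.isIso_iff_bijective _).2 f.bijective
      refine IsPushout.of_vert_isIso ⟨CommRingCat.hom_ext (RingHom.ext fun x => ?_)⟩
      obtain ⟨y, rfl⟩ := (f.symm : A ≃ₐ[A] B).surjective x
      change algebraMap B C (f.symm y) = algebraMap A C (f (f.symm y))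
      rw [f.apply_symm_apply, show f.symm y = algebraMap A B y from f.symm.commutes y,
        ← IsScalarTower.algebraMap_apply]
    refine ⟨m, ?_⟩
    have h1 : letI := (CommRingCat.ofHom (algebraMap B C)).hom.toAlgebra
        Quiet.IsRootTower p m (CommRingCat.of B) (CommRingCat.of C) := by
      show @Quiet.IsRootTower p m B C _ _ (algebraMap B C).toAlgebra
      rw [show (algebraMap B C).toAlgebra = (inferInstance : Algebra B C) from Algebra.algebra_ext _ _ fun _ => rfl]
      exact h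
    have h2 := Quiet5.isRootTower_baseChange p m _ _ _ _ sq h1
    change @Quiet.IsRootTower p m A C _ _ (algebraMap A C).toAlgebra at h2
    rw [show (algebraMap A C).toAlgebra = (inferInstance : Algebra A C) from Algebra.algebra_ext _ _ fun _ => rfl] at h2
    exact h2
  | n + 1, A, B, C, _, _, _, _, _, _, _, ⟨a, alg, htow, hn⟩, h => by
    letI : Algebra (Quiet.RootRing p A a) C := ((algebraMap B C).comp (algebraMap (Quiet.RootRing p A a) B)).toAlgebra
    haveI : IsScalarTower (Quiet.RootRing p A a) B C := IsScalarTower.of_algebraMap_eq fun _ => rfl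
    haveI : IsScalarTower A (Quiet.RootRing p A a) C := IsScalarTower.of_algebraMap_eq fun x => by
      change _ = algebraMap B C (algebraMap (Quiet.RootRing p A a) B (algebraMap A (Quiet.RootRing p A a) x))
      rw [← IsScalarTower.algebraMap_apply A (Quiet.RootRing p A a) B, ← IsScalarTower.algebraMap_apply A B C]
    obtain ⟨N, hN⟩ := isRootTower_trans m n hn h
    exact ⟨N + 1, a, inferInstance, inferInstance, hN⟩

/-- A root tower is injective and contains all `p ^ n`-th powers in its base. -/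
theorem injective_and_pow_mem : ∀ (n : ℕ) {A B : Type u} [CommRing A] [CommRing B] [Algebra A B],
    Quiet.IsRootTower p n A B → (p : A) = 0 →
      Function.Injective (algebraMap A B) ∧ ∀ b : B, ∃ a : A, algebraMap A B a = b ^ p ^ n
  | 0, A, B, _, _, _, ⟨f⟩, _ => ⟨fun x y hxy => by simpa using congrArg f hxy,
      fun b => ⟨f b, by rw [pow_zero, pow_one, ← f.symm.commutes, Algebra.algebraMap_self, RingHom.id_apply,
        f.symm_apply_apply]⟩⟩
  | n + 1, A, B, _, _, _, ⟨a, alg, htow, hn⟩, hA => by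
    have hA1 : (p : Quiet.RootRing p A a) = 0 := by
      rw [← map_natCast (algebraMap A (Quiet.RootRing p A a)), hA, map_zero]
    obtain ⟨h1, h2⟩ := injective_and_pow_mem n hn hA1
    rcases subsingleton_or_nontrivial A with hA0 | hA0
    · haveI : Subsingleton B := (algebraMap A B).codomain_trivial
      exact ⟨fun x y _ => Subsingleton.elim x y, fun b => ⟨0, Subsingleton.elim _ _⟩⟩
    have hg : (X ^ p - C a : A[X]).Monic := monic_X_pow_sub_C _ hp.out.ne_zero
    have hinj : Function.Injective (algebraMap A (Quiet.RootRing p A a)) := by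
      rw [injective_iff_map_eq_zero]
      intro x hx
      by_contra hx0
      refine hg.not_dvd_of_degree_lt (C_ne_zero.2 hx0) ?_ (AdjoinRoot.mk_eq_zero.1 ?_)
      · rw [degree_C hx0, degree_X_pow_sub_C hp.out.pos]
        exact_mod_cast hp.out.pos
      · exact hx
    refine ⟨?_, fun b => ?_⟩
    · rw [IsScalarTower.algebraMap_eq A (Quiet.RootRing p A a) B]
      exact h1.comp hinj
    obtain ⟨c, hc⟩ := h2 b
    suffices H : ∀ c : Quiet.RootRing p A a, ∃ x, algebraMap A _ x = c ^ p by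
      obtain ⟨x, hx⟩ := H c
      exact ⟨x, by rw [IsScalarTower.algebraMap_apply A (Quiet.RootRing p A a) B, hx, map_pow, hc, ← pow_mul, ← pow_succ]⟩
    intro c
    obtain ⟨f, rfl⟩ := AdjoinRoot.mk_surjective c
    induction f using Polynomial.induction_on' with
    | add f g hf hg' =>
      obtain ⟨x, hx⟩ := hf
      obtain ⟨y, hy⟩ := hg'
      refine ⟨x + y, ?_⟩
      rw [map_add, map_add, hx, hy, ← FrobSch.powHom_apply p _ hA1, ← FrobSch.powHom_apply p _ hA1 (AdjoinRoot.mk _ g),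
        ← map_add, FrobSch.powHom_apply]
    | monomial i x =>
      refine ⟨x ^ p * a ^ i, ?_⟩
      have hr : (AdjoinRoot.root (X ^ p - C a : A[X])) ^ p = AdjoinRoot.of _ a := by
        have := AdjoinRoot.eval₂_root (X ^ p - C a : A[X])
        rw [eval₂_sub, eval₂_pow, eval₂_X, eval₂_C] at this
        exact sub_eq_zero.1 this
      rw [← C_mul_X_pow_eq_monomial, map_mul (AdjoinRoot.mk _), map_pow (AdjoinRoot.mk _), AdjoinRoot.mk_C,
        AdjoinRoot.mk_X, mul_pow, ← pow_mul, mul_comm i p, pow_mul, hr, ← map_pow, ← map_pow, ← map_mul]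
      rfl

/-- The map to the base attached to a root tower. -/
theorem exists_frobenius_section {n : ℕ} {A B : Type u} [CommRing A] [CommRing B] [Algebra A B]
    (h : Quiet.IsRootTower p n A B) (hA : (p : A) = 0) :
    ∃ φ : B →+* A, ∀ b, algebraMap A B (φ b) = b ^ p ^ n := by
  obtain ⟨h1, h2⟩ := injective_and_pow_mem n h hA
  choose φ hφ using h2
  have hB : (p : B) = 0 := by rw [← map_natCast (algebraMap A B), hA, map_zero]
  refine ⟨{ toFun := φ, map_one' := h1 (by rw [hφ, map_one, one_pow]),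
            map_zero' := h1 (by rw [hφ, map_zero, zero_pow (pow_ne_zero _ hp.out.ne_zero)]),
            map_mul' := fun x y => h1 (by rw [hφ, map_mul, hφ, hφ, mul_pow]),
            map_add' := fun x y => h1 ?_ }, hφ⟩
  rw [hφ, map_add, hφ, hφ]
  rcases subsingleton_or_nontrivial B with hB' | hB'
  · exact Subsingleton.elim _ _
  · haveI : CharP B p := (CharP.charP_iff_prime_eq_zero hp.out).2 hB
    exact add_pow_char_pow x y p n

/-- Root extractions restrict to smaller affine opens. -/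
theorem tower_restrict {X Y : Scheme.{u}} {r : Y ⟶ X} {n : ℕ} {U : X.affineOpens} (hU' : IsAffineOpen (r ⁻¹ᵁ U.1))
    (hT : letI := (r.app U.1).hom.toAlgebra; Quiet.IsRootTower p n Γ(X, U.1) Γ(Y, r ⁻¹ᵁ U.1))
    {O : X.Opens} (hO : IsAffineOpen O) (hOU : O ≤ U.1) :
    IsAffineOpen (r ⁻¹ᵁ O) ∧ (letI := (r.app O).hom.toAlgebra; Quiet.IsRootTower p n Γ(X, O) Γ(Y, r ⁻¹ᵁ O)) := by
  have H : IsPullback (𝟙 Y) r r (𝟙 X) := IsPullback.of_horiz_isIso ⟨by simp⟩
  have hW : r ⁻¹ᵁ O = (𝟙 Y) ⁻¹ᵁ (r ⁻¹ᵁ U.1) ⊓ r ⁻¹ᵁ O := (inf_eq_right.2 fun y hy => hOU hy).symm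
  have hOU' : O ≤ (𝟙 X) ⁻¹ᵁ U.1 := hOU
  have haff : IsAffineOpen (r ⁻¹ᵁ O) := by
    haveI : IsAffine _ := U.2
    haveI : IsAffine _ := hU'
    haveI : IsAffine _ := hO
    exact .of_isIso (Scheme.Hom.isPullback_resLE H hOU' le_rfl hW).isoPullback.hom
  refine ⟨haff, ?_⟩
  have hpo := (isIso_pushoutSection_iff H hOU' le_rfl hW).mp
    (isIso_pushoutSection_of_isAffineOpen H hOU' le_rfl hW U.2 hO hU')
  have := Quiet5.isRootTower_baseChange p n _ _ _ _ hpo (by rw [← Scheme.Hom.app_eq_appLE]; exact hT)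
  rw [← Scheme.Hom.app_eq_appLE] at this
  exact this

theorem isPthRoot_of_isIso {X Y : Scheme.{u}} (r : Y ⟶ X) [IsIso r] : Quiet.IsPthRoot p r := by
  intro x
  obtain ⟨U, hU, hxU, -⟩ := exists_isAffineOpen_mem_and_subset (x := x) (U := (⊤ : X.Opens)) trivial
  refine ⟨⟨U, hU⟩, hxU, hU.preimage_of_isIso r, ?_⟩
  letI := (r.app U).hom.toAlgebra
  exact ⟨0, ⟨(AlgEquiv.ofBijective (Algebra.ofId _ Γ(Y, r ⁻¹ᵁ U)) (ConcreteCategory.bijective_of_isIso (r.app U))).symm⟩⟩

/-- Root extractions compose. -/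
theorem isPthRoot_comp {X Y Z : Scheme.{u}} {s : Z ⟶ Y} {r : Y ⟶ X} [FrobSch.IsCharP X p]
    (hs : Quiet.IsPthRoot p s) (hr : Quiet.IsPthRoot p r) : Quiet.IsPthRoot p (s ≫ r) := by
  intro x
  obtain ⟨U, hxU, hU', n, hn⟩ := hr x
  letI := (r.app U.1).hom.toAlgebra
  obtain ⟨φ, hφ⟩ := exists_frobenius_section hn (FrobSch.natCast_eq_zero_app X p U.1)
  let w : PrimeSpectrum Γ(Y, r ⁻¹ᵁ U.1) := PrimeSpectrum.comap φ (U.2.primeIdealOf ⟨x, hxU⟩)
  obtain ⟨O, hwO, hO', m, hm⟩ := hs (hU'.fromSpec w)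
  obtain ⟨c, hcO, hcw⟩ := hU'.exists_basicOpen_le (V := O.1) ⟨hU'.fromSpec w, hwO⟩
    (show hU'.fromSpec w ∈ ((r ⁻¹ᵁ U.1 : Y.Opens) : Set Y) from hU'.range_fromSpec ▸ Set.mem_range_self w)
  have hpre : r ⁻¹ᵁ X.basicOpen (φ c) = Y.basicOpen c := by
    rw [Scheme.preimage_basicOpen]
    change Y.basicOpen (algebraMap _ _ (φ c)) = _
    rw [hφ, Scheme.basicOpen_pow _ _ (pow_pos hp.out.pos _)]
  have hx : x ∈ X.basicOpen (φ c) := by
    have h1 : w ∈ PrimeSpectrum.basicOpen c := by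
      have h0 : w ∈ hU'.fromSpec ⁻¹ᵁ Y.basicOpen c := hcw
      rwa [hU'.fromSpec_preimage_basicOpen] at h0
    have h2 : U.2.fromSpec (U.2.primeIdealOf ⟨x, hxU⟩) ∈ X.basicOpen (φ c) := by
      change U.2.primeIdealOf ⟨x, hxU⟩ ∈ U.2.fromSpec ⁻¹ᵁ X.basicOpen (φ c)
      rw [U.2.fromSpec_preimage_basicOpen]
      exact h1
    rwa [IsAffineOpen.fromSpec_primeIdealOf] at h2
  obtain ⟨h1, h1T⟩ := tower_restrict hU' hn (U.2.basicOpen (φ c)) (X.basicOpen_le _)
  have hle : r ⁻¹ᵁ X.basicOpen (φ c) ≤ O.1 := hpre ▸ hcO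
  obtain ⟨h2, h2T⟩ := tower_restrict hO' hm h1 hle
  refine ⟨⟨_, U.2.basicOpen (φ c)⟩, hx, h2, ?_⟩
  letI := (r.app (X.basicOpen (φ c))).hom.toAlgebra
  letI := (s.app (r ⁻¹ᵁ X.basicOpen (φ c))).hom.toAlgebra
  letI := ((s ≫ r).app (X.basicOpen (φ c))).hom.toAlgebra
  letI : Algebra Γ(X, X.basicOpen (φ c)) Γ(Z, s ⁻¹ᵁ r ⁻¹ᵁ X.basicOpen (φ c)) :=
    ((r.app (X.basicOpen (φ c))) ≫ (s.app (r ⁻¹ᵁ X.basicOpen (φ c)))).hom.toAlgebra
  haveI : IsScalarTower Γ(X, X.basicOpen (φ c)) Γ(Y, r ⁻¹ᵁ X.basicOpen (φ c))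
      Γ(Z, s ⁻¹ᵁ r ⁻¹ᵁ X.basicOpen (φ c)) := IsScalarTower.of_algebraMap_eq fun _ => rfl
  exact (isRootTower_trans (B := Γ(Y, r ⁻¹ᵁ X.basicOpen (φ c))) (C := Γ(Z, s ⁻¹ᵁ r ⁻¹ᵁ X.basicOpen (φ c))) m n h1T h2T :)

/-- The relative Frobenius of an étale morphism is an isomorphism. -/
theorem isPullback_frob_of_etale {W V : Scheme.{u}} [FrobSch.IsCharP V p] [FrobSch.IsCharP W p] (e : W ⟶ V)
    [Etale e] : IsPullback (FrobSch.frob W p) e e (FrobSch.frob V p) := by
  haveI : Etale (FrobSch.relFrob e p ≫ pullback.snd e (FrobSch.frob V p)) := by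
    rw [FrobSch.relFrob_snd]; infer_instance
  haveI : Etale (FrobSch.relFrob e p) :=
    MorphismProperty.of_postcomp (W := @Etale) (W' := @Etale) _ (pullback.snd e (FrobSch.frob V p)) inferInstance
      inferInstance
  haveI := FrobSchLib.universallyInjective_relFrob p e
  haveI := EtFound.isOpenImmersion_of_etale_univInj (FrobSch.relFrob e p)
  haveI : Surjective (FrobSch.relFrob e p) := ⟨((FrobSchLib.isUnivHomeo_relFrob p e) (𝟙 W) (𝟙 _) (FrobSch.relFrob e p)
    (IsPullback.of_vert_isIso ⟨by simp⟩)).surjective⟩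
  haveI : IsIso (FrobSch.relFrob e p) := (isIso_iff_isOpenImmersion_and_surjective _).2 ⟨inferInstance, inferInstance⟩
  exact IsPullback.of_iso_pullback ⟨FrobSch.frob_comp p e⟩ (asIso (FrobSch.relFrob e p))
    (FrobSch.relFrob_fst e p) (FrobSch.relFrob_snd e p)

theorem isPullback_iter_of_etale {W V : Scheme.{u}} [FrobSch.IsCharP V p] [FrobSch.IsCharP W p] (e : W ⟶ V)
    [Etale e] : ∀ n, IsPullback (FrobIter.iter p W n) e e (FrobIter.iter p V n)
  | 0 => IsPullback.of_horiz_isIso (fst := 𝟙 W) (g := 𝟙 V) ⟨by simp⟩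
  | n + 1 => (isPullback_iter_of_etale e n).paste_horiz (isPullback_frob_of_etale e)

/-- An étale scheme over a root extraction comes from the base. -/
theorem exists_etale_descent {A B : Type u} [CommRing A] [CommRing B] [Algebra A B] [CharP B p] {n : ℕ}
    (h : Quiet.IsRootTower p n A B) (hA : (p : A) = 0) {W : Scheme.{u}} (e : W ⟶ Spec (CommRingCat.of B)) [Etale e] :
    ∃ (W' : Scheme.{u}) (j : W ⟶ W') (e' : W' ⟶ Spec (CommRingCat.of A)), Etale e' ∧
      IsPullback j e e' (Spec.map (CommRingCat.ofHom (algebraMap A B))) := by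
  obtain ⟨φ, hφ⟩ := exists_frobenius_section h hA
  haveI : FrobSch.IsCharP W p := FrobSch.IsCharP.of_hom e p
  let ψ := Spec.map (CommRingCat.ofHom φ)
  have hψ : Spec.map (CommRingCat.ofHom (algebraMap A B)) ≫ ψ = FrobIter.iter p (Spec (CommRingCat.of B)) n := by
    rw [FrobIter.iter_Spec, ← Spec.map_comp]
    exact congrArg Spec.map (CommRingCat.hom_ext (RingHom.ext fun b => (hφ b).trans (iterateFrobenius_def p n b).symm))
  have hw : FrobIter.iter p W n ≫ e = (e ≫ Spec.map (CommRingCat.ofHom (algebraMap A B))) ≫ ψ := by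
    rw [Category.assoc, hψ, FrobIter.iter_comp]
  refine ⟨pullback e ψ, pullback.lift _ _ hw, pullback.snd e ψ, inferInstance, ?_⟩
  refine IsPullback.of_right ?_ (pullback.lift_snd _ _ _) (IsPullback.of_hasPullback e ψ)
  rw [pullback.lift_fst, hψ]
  exact isPullback_iter_of_etale e n

end Groth.Agent.H84RootTower
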