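import Groth.Prelude.Def_W4c2gaugesfzipsQuiet
import Mathlib.RingTheory.OrzechProperty
import Mathlib.RingTheory.AdjoinRoot

/-!
# Root towers from monomial bases
-/

universe u

open Polynomial

namespace Groth.Agent.H84RootTower

/-- The monomials with exponents below `p`. -/
def mon {B : Type u} [CommRing B] {n p : ℕ} (y : Fin n → B) (r : Fin n → Fin p) : B := ∏ i, y i ^ (r i : ℕ)

theorem mon_succ {B : Type u} [CommRing B] {n p : ℕ} (y : Fin (n + 1) → B) (r : Fin (n + 1) → Fin p) :
    mon y r = y 0 ^ (r 0 : ℕ) * mon (Fin.tail y) (Fin.tail r) := by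
  rw [mon, Fin.prod_univ_succ]
  rfl

/-- An algebra with a basis of monomials in elements with `p`-th power in the base is a root tower. -/
theorem isRootTower_of_monomials (p : ℕ) (hp : 0 < p) :
    ∀ (n : ℕ) (A B : Type u) [CommRing A] [CommRing B] [Algebra A B] (y : Fin n → B) (a : Fin n → A),
      (∀ i, y i ^ p = algebraMap A B (a i)) → Function.Bijective (Fintype.linearCombination A (mon (p := p) y)) →
      Quiet.IsRootTower p n A B
  | 0, A, B, _, _, _, y, a, _, hb => by
    have h1 : ∀ v : (Fin 0 → Fin p) → A, Fintype.linearCombination A (mon (p := p) y) v = algebraMap A B (v default) := by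
      intro v
      rw [Fintype.linearCombination_apply, Fintype.sum_unique, mon, Fin.prod_univ_zero, Algebra.smul_def, mul_one]
    refine ⟨(AlgEquiv.ofBijective (Algebra.ofId A B) ⟨fun s t hst => ?_, fun b => ?_⟩).symm⟩
    · have := hb.1 (a₁ := fun _ => s) (a₂ := fun _ => t) (by rw [h1, h1]; exact hst)
      exact congrFun this default
    · obtain ⟨v, hv⟩ := hb.2 b
      exact ⟨v default, (h1 v).symm.trans hv⟩
  | n + 1, A, B, _, _, _, y, a, hy, hb => by
    let g : A[X] := X ^ p - C (a 0)
    have hg : g.Monic := monic_X_pow_sub_C _ hp.ne'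
    let φ : Quiet.RootRing p A (a 0) →ₐ[A] B := AdjoinRoot.liftAlgHom g (Algebra.ofId A B) (y 0) (by
      simp only [g, eval₂_sub, eval₂_X_pow, eval₂_C]
      exact sub_eq_zero.2 (hy 0))
    letI : Algebra (Quiet.RootRing p A (a 0)) B := φ.toRingHom.toAlgebra
    haveI : IsScalarTower A (Quiet.RootRing p A (a 0)) B := IsScalarTower.of_algebraMap_eq fun x => (φ.commutes x).symm
    refine ⟨a 0, inferInstance, inferInstance, isRootTower_of_monomials p hp n _ B (Fin.tail y)
      (fun i => algebraMap A _ (a i.succ))
      (fun i => (hy i.succ).trans (IsScalarTower.algebraMap_apply A (Quiet.RootRing p A (a 0)) B _)) ?_⟩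
    set A' := Quiet.RootRing p A (a 0)
    let Ψ := Fintype.linearCombination A' (mon (p := p) (Fin.tail y))
    have hsurj : Function.Surjective Ψ := by
      intro b
      obtain ⟨v, rfl⟩ := hb.2 b
      refine ⟨∑ r : Fin (n + 1) → Fin p, Pi.single (Fin.tail r) (v r • (AdjoinRoot.root g ^ (r 0 : ℕ) : A')), ?_⟩
      rw [map_sum, Fintype.linearCombination_apply]
      refine Finset.sum_congr rfl fun r _ => ?_
      rw [Fintype.linearCombination_apply_single, smul_assoc, Algebra.smul_def (AdjoinRoot.root g ^ (r 0 : ℕ) : A'),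
        mon_succ, map_pow]
      refine congrArg (fun z => v r • (z ^ (r 0 : ℕ) * _)) ?_
      change φ (AdjoinRoot.root g) = y 0
      simp [φ]
    refine ⟨?_, hsurj⟩
    rcases subsingleton_or_nontrivial A with hA | hA
    · haveI : Subsingleton A' := (algebraMap A A').codomain_trivial
      exact fun s t _ => Subsingleton.elim s t
    let e : ((Fin n → Fin p) → A') ≃ₗ[A] ((Fin (n + 1) → Fin p) → A) :=
      (Pi.basis fun _ : Fin n → Fin p => (AdjoinRoot.powerBasis' hg).basis).equivFun.trans
        (LinearEquiv.funCongrLeft A A (Fintype.equivOfCardEq (by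
          simp [g, natDegree_X_pow_sub_C, pow_succ, Fintype.card_sigma])))
    let L := LinearEquiv.ofBijective _ hb
    let T : ((Fin (n + 1) → Fin p) → A) →ₗ[A] ((Fin (n + 1) → Fin p) → A) :=
      (L.symm.toLinearMap.comp (Ψ.restrictScalars A)).comp e.symm.toLinearMap
    have hT : Function.Injective T := OrzechProperty.injective_of_surjective_endomorphism T
      ((L.symm.surjective.comp hsurj).comp e.symm.surjective)
    intro s t hst
    have hst' : T (e s) = T (e t) := by
      change L.symm (Ψ (e.symm (e s))) = L.symm (Ψ (e.symm (e t)))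
      rw [e.symm_apply_apply, e.symm_apply_apply]
      exact congrArg L.symm hst
    exact e.injective (hT hst')

end Groth.Agent.H84RootTower
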