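import Groth.Agent.FrobSmoothLib.Coords
import Groth.Agent.H84RootTower.Tower

/-!
# The relative Frobenius of a standard smooth algebra is a root tower
-/

universe u

open TensorProduct FrobAlg

namespace Groth.Agent.H84RootTower

variable {p : ℕ} [hp : Fact p.Prime] {A : Type u} [CommRing A] [CharP A p] {C : Type u} [CommRing C] [CharP C p]
  [Algebra A C]

/-- The relative Frobenius of a standard smooth algebra of relative dimension `n` is a tower of `n` root extractions. -/
theorem isRootTower_relFrob {n : ℕ} [Algebra.IsStandardSmoothOfRelativeDimension n A C] :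
    letI := (FrobAlg.relFrob p A C).toAlgebra
    Quiet.IsRootTower p n (BaseChange p A C) C := by
  obtain ⟨g, hg⟩ := Algebra.IsStandardSmoothOfRelativeDimension.exists_etale_mvPolynomial (n := n) A C
  letI := (FrobAlg.relFrob p A C).toAlgebra
  refine isRootTower_of_monomials p hp.out.pos n _ C (fun i => g (MvPolynomial.X i))
    (fun i => g (MvPolynomial.X i) ⊗ₜ[A] (1 : Twist p A)) (fun i => ?_) ?_
  · rw [RingHom.algebraMap_toAlgebra, PerfLib.relFrob_tmul, map_one, map_one, mul_one]
  · have h := FrobSmoothLib.bijective_linearCombination (p := p) g hg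
    have e : (fun r : Fin n → Fin p => g (MvPolynomial.monomial (FrobSmoothLib.ofRem r) 1)) =
        mon (p := p) fun i => g (MvPolynomial.X i) := by
      funext r
      rw [MvPolynomial.monomial_eq, map_one, one_mul, Finsupp.prod_fintype _ _ (fun _ => pow_zero _), map_prod]
      exact Finset.prod_congr rfl fun i _ => by simp [FrobSmoothLib.ofRem]
    rwa [e] at h

end Groth.Agent.H84RootTower
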