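import Groth.Agent.H84RootTower.Compose
import Groth.Agent.EtFound.LiftEtale

/-!
# Lifting root extractions along surjective closed immersions
-/

set_option backward.isDefEq.respectTransparency false

universe u

open CategoryTheory Limits AlgebraicGeometry Polynomial

namespace Groth.Agent.H84RootTower

set_option backward.isDefEq.respectTransparency true in
open Quiet in
/-- Adjoining a root commutes with pushout. -/
theorem exists_isPushout_root (p : ℕ) {A A' : CommRingCat.{u}} (g : A ⟶ A') (a : A) :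
    ∃ g1 : CommRingCat.of (RootRing p A a) ⟶ CommRingCat.of (RootRing p A' (g a)),
      (Function.Surjective g → Function.Surjective g1) ∧
      IsPushout (CommRingCat.ofHom (AdjoinRoot.of (X ^ p - C a : A[X]))) g g1
        (CommRingCat.ofHom (AdjoinRoot.of (X ^ p - C (g a) : A'[X]))) := by
  let A1 := CommRingCat.of (RootRing p A a)
  let A1' := CommRingCat.of (RootRing p A' (g a))
  let i : A ⟶ A1 := CommRingCat.ofHom (AdjoinRoot.of _)
  let i' : A' ⟶ A1' := CommRingCat.ofHom (AdjoinRoot.of _)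
  have hroot' : (AdjoinRoot.root (X ^ p - C (g a) : A'[X])) ^ p = AdjoinRoot.of _ (g a) := by
    have := AdjoinRoot.eval₂_root (X ^ p - C (g a) : A'[X])
    rw [eval₂_sub, eval₂_pow, eval₂_X, eval₂_C] at this
    exact sub_eq_zero.1 this
  have hev : (X ^ p - C a : A[X]).eval₂ (g ≫ i').hom (AdjoinRoot.root (X ^ p - C (g a) : A'[X])) = 0 := by
    rw [eval₂_sub, eval₂_pow, eval₂_X, eval₂_C, hroot']
    exact sub_self _
  let g1 : A1 ⟶ A1' := CommRingCat.ofHom (AdjoinRoot.lift (g ≫ i').hom (AdjoinRoot.root _) hev)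
  have sq : IsPushout i g g1 i' := by
    refine ⟨⟨?_⟩, ⟨PushoutCocone.IsColimit.mk _ (fun s => CommRingCat.ofHom (AdjoinRoot.lift s.inr.hom
      (s.inl.hom (AdjoinRoot.root _)) ?_)) (fun s => ?_) (fun s => ?_) (fun s m hl hr => ?_)⟩⟩
    · refine CommRingCat.hom_ext (RingHom.ext fun x => ?_)
      simp [g1, i, i']
      exact AdjoinRoot.lift_of _
    · rw [eval₂_sub, eval₂_pow, eval₂_X, eval₂_C, ← map_pow]
      have h1 : (AdjoinRoot.root (X ^ p - C a : A[X])) ^ p = AdjoinRoot.of _ a := by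
        have := AdjoinRoot.eval₂_root (X ^ p - C a : A[X])
        rw [eval₂_sub, eval₂_pow, eval₂_X, eval₂_C] at this
        exact sub_eq_zero.1 this
      rw [h1]
      exact sub_eq_zero.2 congr($(s.condition).hom a)
    · refine CommRingCat.hom_ext (AdjoinRoot.ringHom_ext (RingHom.ext fun x => ?_) ?_)
      · simp [g1, i']
        erw [AdjoinRoot.lift_of]
        exact congr($(s.condition).hom x).symm
      · simp [g1, i']
        erw [AdjoinRoot.lift_root]
    · refine CommRingCat.hom_ext (RingHom.ext fun x => ?_)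
      simp [i']
      exact AdjoinRoot.lift_of _
    · refine CommRingCat.hom_ext (AdjoinRoot.ringHom_ext (RingHom.ext fun x => ?_) ?_)
      · simp
        exact congr($(hr).hom x)
      · have h2 := congr($(hl).hom (AdjoinRoot.root _))
        simp [g1] at h2 ⊢
        erw [AdjoinRoot.lift_root] at h2
        exact h2
  refine ⟨g1, fun hg c => ?_, sq⟩
  obtain ⟨f', rfl⟩ := AdjoinRoot.mk_surjective c
  obtain ⟨f, rfl⟩ := Polynomial.map_surjective g.hom hg f'
  refine ⟨AdjoinRoot.mk _ f, ?_⟩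
  have : (g1.hom.comp (AdjoinRoot.mk _)) = (AdjoinRoot.mk _).comp (Polynomial.mapRingHom g.hom) := by
    apply Polynomial.ringHom_ext
    · intro x
      change g1.hom (AdjoinRoot.mk (X ^ p - Polynomial.C a : A[X]) (C x)) = AdjoinRoot.mk _ (Polynomial.mapRingHom g.hom (C x))
      rw [AdjoinRoot.mk_C, Polynomial.coe_mapRingHom, Polynomial.map_C, AdjoinRoot.mk_C]
      exact AdjoinRoot.lift_of hev
    · change g1.hom (AdjoinRoot.mk (X ^ p - Polynomial.C a : A[X]) X) = AdjoinRoot.mk _ (Polynomial.mapRingHom g.hom X)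
      rw [AdjoinRoot.mk_X, Polynomial.coe_mapRingHom, Polynomial.map_X, AdjoinRoot.mk_X]
      exact AdjoinRoot.lift_root hev
  exact congr($this f)

open Quiet in
/-- Root towers lift along surjections. -/
theorem exists_isRootTower_lift (p : ℕ) : ∀ (n : ℕ) {A A' B' : CommRingCat.{u}} (g : A ⟶ A') (f' : A' ⟶ B'),
    Function.Surjective g → (letI := f'.hom.toAlgebra; IsRootTower p n A' B') →
    ∃ (B : CommRingCat.{u}) (f : A ⟶ B) (g' : B ⟶ B'), IsPushout f g g' f' ∧
      (letI := f.hom.toAlgebra; IsRootTower p n A B)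
  | 0, A, A', B', g, f', hg, h => by
    letI := f'.hom.toAlgebra
    obtain ⟨e⟩ := h
    haveI : IsIso f' := by
      refine (ConcreteCategory.isIso_iff_bijective f').2 ?_
      rw [show ⇑f'.hom = ⇑e.symm from funext fun a => (e.symm.commutes a).symm]
      exact e.symm.bijective
    refine ⟨A, 𝟙 A, g ≫ f', IsPushout.of_horiz_isIso ⟨by simp⟩, ?_⟩
    letI := (𝟙 A : A ⟶ A).hom.toAlgebra
    exact ⟨(AlgEquiv.ofBijective (Algebra.ofId A A) Function.bijective_id).symm⟩
  | n + 1, A, A', B', g, f', hg, h => by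
    letI := f'.hom.toAlgebra
    obtain ⟨a', alg, htow, hn⟩ := h
    obtain ⟨a, rfl⟩ := hg a'
    obtain ⟨g1, hg1, sq⟩ := exists_isPushout_root p g a
    let j' : CommRingCat.of (RootRing p A' (g a)) ⟶ B' := CommRingCat.ofHom (algebraMap (RootRing p A' (g a)) B')
    have hj' : (letI := j'.hom.toAlgebra; IsRootTower p n (CommRingCat.of (RootRing p A' (g a))) B') := by
      have e : alg = j'.hom.toAlgebra := Algebra.algebra_ext _ _ fun _ => rfl
      rw [← e]
      exact hn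
    obtain ⟨B, j, g', sq2, hB⟩ := exists_isRootTower_lift p n g1 j' (hg1 hg) hj'
    let i : A ⟶ CommRingCat.of (RootRing p A a) := CommRingCat.ofHom (AdjoinRoot.of _)
    have hf' : CommRingCat.ofHom (AdjoinRoot.of (X ^ p - C (g a) : A'[X])) ≫ j' = f' := by
      ext x
      exact (IsScalarTower.algebraMap_apply A' (RootRing p A' (g a)) B' x).symm
    refine ⟨B, i ≫ j, g', hf' ▸ sq.paste_horiz sq2, ?_⟩
    letI := (i ≫ j).hom.toAlgebra
    letI := j.hom.toAlgebra
    exact ⟨a, j.hom.toAlgebra, IsScalarTower.of_algebraMap_eq fun x => rfl, hB⟩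

/-- The spectrum of a root tower is a root extraction. -/
theorem isPthRoot_Spec {p n : ℕ} {A B : CommRingCat.{u}} (f : A ⟶ B)
    (h : letI := f.hom.toAlgebra; Quiet.IsRootTower p n A B) : Quiet.IsPthRoot p (Spec.map f) := by
  intro x
  have hT : IsAffineOpen ((Spec.map f) ⁻¹ᵁ ⊤) := isAffineOpen_top _
  refine ⟨⟨⊤, isAffineOpen_top _⟩, trivial, hT, n, ?_⟩
  refine Quiet5.isRootTower_baseChange p n f (Scheme.ΓSpecIso A).inv (Scheme.ΓSpecIso B).inv _ ?_ h
  exact IsPushout.of_vert_isIso ⟨Scheme.ΓSpecIso_inv_naturality f⟩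

/-- Root extractions lift along surjective closed immersions, locally. -/
theorem exists_quiet_lift {p : ℕ} [Fact p.Prime] {T U U' : Scheme.{u}} (i : U ⟶ T) [IsClosedImmersion i] [Surjective i]
    (f' : U' ⟶ U) (hf' : Quiet.IsQuiet p f') (u : U') :
    ∃ (V : U'.Opens) (T' : Scheme.{u}) (q : T' ⟶ T) (j : (V : Scheme.{u}) ⟶ T'),
      u ∈ V ∧ Quiet.IsQuiet p q ∧ IsPullback j (V.ι ≫ f') q i := by
  obtain ⟨V, Z, r, e, hu, hr, he, hre⟩ := hf' u
  haveI := he
  obtain ⟨Et, h, hh, hhI, z0, hz0⟩ := EtFound.exists_etale_lift i e (r ⟨u, hu⟩)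
  haveI hEt : Etale Et.hom := Et.prop
  haveI := hhI
  obtain ⟨W, hrW, hW, n, hn⟩ := hr (r ⟨u, hu⟩)
  let i1 := pullback.fst Et.hom i
  haveI : IsClosedImmersion i1 := MorphismProperty.pullback_fst _ _ inferInstance
  obtain ⟨S, hS, hSW⟩ := (i1.isClosedEmbedding.isInducing.isOpen_iff).1 (h ⁻¹ᵁ W.1).2
  have hz0' : i1 z0 ∈ (⟨S, hS⟩ : Et.left.Opens) := by
    change z0 ∈ i1 ⁻¹' S
    rw [hSW]
    show h z0 ∈ W.1
    rw [show h z0 = r ⟨u, hu⟩ from hz0]
    exact hrW
  obtain ⟨O, hO, hzO, hOS⟩ := exists_isAffineOpen_mem_and_subset hz0'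
  have hO0 : IsAffineOpen (h ''ᵁ (i1 ⁻¹ᵁ O)) := (hO.preimage i1).image_of_isOpenImmersion h
  have hle : h ''ᵁ (i1 ⁻¹ᵁ O) ≤ W.1 := by
    rintro _ ⟨y, hy, rfl⟩
    have h1 : y ∈ i1 ⁻¹' S := hOS hy
    rw [hSW] at h1
    exact h1
  obtain ⟨hB, hBT⟩ := tower_restrict hW hn hO0 hle
  set O0 := h ''ᵁ (i1 ⁻¹ᵁ O)
  have hsub : Set.range hO0.fromSpec ⊆ Set.range h := by
    rw [IsAffineOpen.range_fromSpec]
    rintro _ ⟨y, -, rfl⟩
    exact ⟨y, rfl⟩
  let s : Spec Γ(Z, O0) ⟶ pullback Et.hom i := IsOpenImmersion.lift h hO0.fromSpec hsub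
  have hs : s ≫ h = hO0.fromSpec := IsOpenImmersion.lift_fac _ _ _
  haveI : IsOpenImmersion s := by
    haveI : IsOpenImmersion (s ≫ h) := by rw [hs]; infer_instance
    exact IsOpenImmersion.of_comp s h
  have hrange : s.opensRange = i1 ⁻¹ᵁ O := by
    refine Scheme.Hom.image_injective h ?_
    show h ''ᵁ s.opensRange = O0
    rw [← Scheme.Hom.opensRange_comp]
    simp only [hs, IsAffineOpen.opensRange_fromSpec]
  have hsub2 : Set.range (s ≫ i1) ⊆ Set.range hO.fromSpec := by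
    rw [IsAffineOpen.range_fromSpec]
    rintro _ ⟨y, rfl⟩
    show s y ∈ i1 ⁻¹ᵁ O
    rw [← hrange]
    exact ⟨y, rfl⟩
  let c : Spec Γ(Z, O0) ⟶ Spec Γ(Et.left, O) := IsOpenImmersion.lift hO.fromSpec (s ≫ i1) hsub2
  have hc : c ≫ hO.fromSpec = s ≫ i1 := IsOpenImmersion.lift_fac _ _ _
  have H2 : IsPullback c s hO.fromSpec i1 := by
    refine IsOpenImmersion.isPullback c s hO.fromSpec i1 hc.symm ?_
    rw [IsAffineOpen.opensRange_fromSpec, hrange]
  haveI : IsClosedImmersion c := MorphismProperty.of_isPullback (P := @IsClosedImmersion) H2.flip inferInstance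
  obtain ⟨g, hg⟩ := Spec.map_surjective c
  have hgsurj : Function.Surjective g := by
    haveI : IsClosedImmersion (Spec.map g) := hg ▸ inferInstance
    have h1 := (IsClosedImmersion.isAffine_surjective_of_isAffine (Spec.map g)).2
    have h2 := Scheme.ΓSpecIso_naturality g
    intro y
    obtain ⟨x, hx⟩ := h1 ((Scheme.ΓSpecIso _).inv y)
    refine ⟨(Scheme.ΓSpecIso _).hom x, ?_⟩
    have h3 := congr($(h2).hom x)
    simp only [CommRingCat.comp_apply] at h3
    rw [← h3, hx, ← CommRingCat.comp_apply, Iso.inv_hom_id]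
    rfl
  obtain ⟨B, f, g', sq, hBtow⟩ := exists_isRootTower_lift p n g (r.app O0) hgsurj hBT
  let b : Spec Γ((V : Scheme.{u}), r ⁻¹ᵁ O0) ⟶ U' := hB.fromSpec ≫ V.ι
  let q : Spec B ⟶ T := Spec.map f ≫ hO.fromSpec ≫ Et.hom
  have H1 : IsPullback (Spec.map g') (Spec.map (r.app O0)) (Spec.map f) c :=
    hg ▸ isPullback_SpecMap_of_isPushout _ _ _ _ sq
  have hb : b ≫ f' = Spec.map (r.app O0) ≫ s ≫ pullback.snd Et.hom i := by
    have h1 : Spec.map (r.app O0) ≫ hO0.fromSpec = hB.fromSpec ≫ r := by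
      rw [Scheme.Hom.app_eq_appLE]
      exact IsAffineOpen.SpecMap_appLE_fromSpec r hO0 hB le_rfl
    rw [← hh, reassoc_of% hs, reassoc_of% h1, hre, Category.assoc]
  have H : IsPullback (Spec.map g') (b ≫ f') q i := by
    rw [hb]
    exact H1.paste_vert (H2.paste_vert (IsPullback.of_hasPullback Et.hom i))
  refine ⟨b.opensRange, Spec B, q, b.isoOpensRange.inv ≫ Spec.map g', ?_, ?_, ?_⟩
  · have h1 : (⟨u, hu⟩ : V) ∈ r ⁻¹ᵁ O0 := ⟨z0, hzO, hz0⟩
    rw [← hB.opensRange_fromSpec] at h1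
    obtain ⟨w, hw⟩ := h1
    exact ⟨w, congr(V.ι $hw)⟩
  · intro y
    haveI : IsIso (⊤ : (Spec B).Opens).ι := (Scheme.topIso (Spec B)).isIso_hom
    haveI : Etale (hO.fromSpec ≫ Et.hom) := inferInstance
    refine ⟨⊤, Spec Γ(Et.left, O), (⊤ : (Spec B).Opens).ι ≫ Spec.map f, hO.fromSpec ≫ Et.hom, trivial, ?_,
      inferInstance, ?_⟩
    · exact Quiet5.isPthRoot_of_isPullback (g' := (⊤ : (Spec B).Opens).ι) (k := 𝟙 _) (IsPullback.of_horiz_isIso ⟨by simp⟩)
        (isPthRoot_Spec f hBtow)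
    · simp [q]
  · refine H.of_iso b.isoOpensRange (Iso.refl _) (Iso.refl _) (Iso.refl _) ?_ ?_ (by simp) (by simp)
    · simp
    · rw [Iso.refl_hom, Category.comp_id, Scheme.Hom.isoOpensRange_hom_ι_assoc]

end Groth.Agent.H84RootTower
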