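import Groth.Agent.FrobSmoothLib.Global
import Groth.Agent.H84RootTower.Frob
import Groth.Agent.H84RootTower.Scheme
import Mathlib.RingTheory.RingHom.FaithfullyFlat

/-!
# The Frobenius of a smooth algebra over a perfect field
-/

universe u

open CategoryTheory AlgebraicGeometry TensorProduct FrobAlg

namespace Groth.Agent.H84RootTower

variable {p : ℕ} [hp : Fact p.Prime] {k : Type u} [Field k] [CharP k p] [PerfectRing k p]

/-- Over a perfect field the twist of an algebra is the algebra. -/
theorem bijective_includeLeft (C : Type u) [CommRing C] [Algebra k C] :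
    Function.Bijective (fun c : C => c ⊗ₜ[k] (1 : Twist p k) : C → BaseChange p k C) := by
  have hb : Function.Bijective (Algebra.ofId k (Twist p k)) :=
    (toTwist p k).bijective.comp (PerfectRing.bijective_frobenius (R := k) (p := p))
  let e := (Algebra.TensorProduct.congr (AlgEquiv.refl : C ≃ₐ[k] C) (AlgEquiv.ofBijective _ hb).symm).trans
    (Algebra.TensorProduct.rid k k C)
  refine (Function.Bijective.of_comp_iff' e.bijective _).1 ?_
  convert Function.bijective_id using 1
  funext c
  simp [e]

theorem frobenius_eq_comp (C : Type u) [CommRing C] [Algebra k C] [CharP C p] :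
    frobenius C p = (FrobAlg.relFrob p k C).comp (Algebra.TensorProduct.includeLeftRingHom) := by
  ext c
  rw [frobenius_def]
  change _ = FrobAlg.relFrob p k C (c ⊗ₜ[k] 1)
  rw [PerfLib.relFrob_tmul, map_one, map_one, mul_one]

/-- The Frobenius of a standard smooth algebra over a perfect field is a root tower. -/
theorem isRootTower_frobenius (C : Type u) [CommRing C] [Algebra k C] [CharP C p] {n : ℕ}
    [Algebra.IsStandardSmoothOfRelativeDimension n k C] :
    letI := (frobenius C p).toAlgebra
    Quiet.IsRootTower p n C C := by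
  obtain ⟨g, hg⟩ := Algebra.IsStandardSmoothOfRelativeDimension.exists_etale_mvPolynomial (n := n) k C
  letI := (frobenius C p).toAlgebra
  refine isRootTower_of_monomials p hp.out.pos n C C (fun i => g (MvPolynomial.X i))
    (fun i => g (MvPolynomial.X i)) (fun i => rfl) ?_
  have h := FrobSmoothLib.bijective_linearCombination (p := p) g hg
  have e : (fun r : Fin n → Fin p => g (MvPolynomial.monomial (FrobSmoothLib.ofRem r) 1)) =
      mon (p := p) fun i => g (MvPolynomial.X i) := by
    funext r
    rw [MvPolynomial.monomial_eq, map_one, one_mul, Finsupp.prod_fintype _ _ (fun _ => pow_zero _), map_prod]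
    exact Finset.prod_congr rfl fun i _ => by simp [FrobSmoothLib.ofRem]
  rw [e] at h
  convert h.comp (Function.Bijective.piMap fun _ : Fin n → Fin p => bijective_includeLeft (p := p) (k := k) C) using 1
  funext v
  simp only [Function.comp_apply, Fintype.linearCombination_apply]
  refine Finset.sum_congr rfl fun r _ => ?_
  show frobenius C p (v r) * _ = FrobAlg.relFrob p k C (v r ⊗ₜ[k] 1) * _
  rw [frobenius_eq_comp (k := k)]
  rfl

variable (k) (A : Type u) [CommRing A] [Algebra k A] [CharP A p] [Algebra.Smooth k A]

include k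

/-- The Frobenius of a smooth algebra over a perfect field is faithfully flat. -/
theorem faithfullyFlat_frobenius : (frobenius A p).FaithfullyFlat := by
  refine RingHom.FaithfullyFlat.iff_flat_and_comap_surjective.2 ⟨?_, fun q => ⟨q, ?_⟩⟩
  · rw [frobenius_eq_comp (k := k)]
    exact (RingHom.Flat.of_bijective (bijective_includeLeft (p := p) (k := k) A)).comp
      (FrobSmoothLib.flat_relFrob (p := p) (A := k) (B := A))
  · ext a
    rw [PrimeSpectrum.comap_asIdeal, Ideal.mem_comap, frobenius_def]
    exact q.2.pow_mem_iff_mem p hp.out.pos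

/-- The Frobenius of a smooth algebra over a perfect field is an extraction of roots. -/
theorem isPthRoot_frobenius : Quiet.IsPthRoot p (Spec.map (CommRingCat.ofHom (frobenius A p))) := by
  rw [← frob_Spec]
  intro x
  obtain ⟨s, hs, hstd⟩ := Algebra.Smooth.exists_span_eq_top_isStandardSmooth k A
  obtain ⟨b, hbs, hbx⟩ : ∃ b ∈ s, b ∉ (x : PrimeSpectrum A).asIdeal := by
    by_contra! h
    exact (x : PrimeSpectrum A).isPrime.ne_top (top_le_iff.1 (hs ▸ Ideal.span_le.2 h))
  let U : (Spec (CommRingCat.of A)).Opens := PrimeSpectrum.basicOpen b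
  let C := Γ(Spec (CommRingCat.of A), U)
  letI algC : Algebra A C := StructureSheaf.openAlgebra A (Opposite.op (PrimeSpectrum.basicOpen b))
  haveI : IsLocalization.Away b C := StructureSheaf.IsLocalization.to_basicOpen A b
  letI : Algebra k C := ((algebraMap A C).comp (algebraMap k A)).toAlgebra
  haveI : IsScalarTower k A C := IsScalarTower.of_algebraMap_eq fun _ => rfl
  haveI : Nonempty ↥U := ⟨⟨x, hbx⟩⟩
  haveI : CharP C p := (CharP.charP_iff_prime_eq_zero hp.out).2 (FrobSch.natCast_eq_zero_app _ p U)
  haveI := hstd b hbs
  let e : Localization.Away b ≃ₐ[k] C := (IsLocalization.algEquiv (Submonoid.powers b) _ C).restrictScalars k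
  haveI : Algebra.IsStandardSmooth k C := Algebra.IsStandardSmooth.of_algEquiv e
  obtain ⟨n, hn⟩ := FrobSmoothLib.exists_relativeDimension (A := k) (C := C)
  have hU : IsAffineOpen U := IsAffineOpen.Spec_basicOpen (R := CommRingCat.of A) b
  refine ⟨⟨U, hU⟩, hbx, hU, ?_⟩
  letI := ((FrobSch.frob (Spec (CommRingCat.of A)) p).app U).hom.toAlgebra
  refine ⟨n, ?_⟩
  exact isRootTower_frobenius (p := p) (k := k) C (n := n)

end Groth.Agent.H84RootTower
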